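import Mathlib
import Cfsg.Agent.H195.BC.Lin

set_option autoImplicit false

/-!
# Commuting isometries: the structure of elements of order `p (q^k + 1)` (helper195)
-/

namespace Cfsg.Agent.H195.BC

open Module QuadraticMap

variable {F V : Type*} [Field F] [AddCommGroup V] [Module F V]
variable {B : LinearMap.BilinForm F V} {X : V →ₗ[F] V} {q r k : ℕ}

/-- `C ⊥ E` -/
theorem CC_orth_EE (hB : ∀ x y, B (X x) (X y) = B x y) {c e : V} (hc : c ∈ CC X) (he : e ∈ EE X) :
    B c e = 0 := by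
  obtain ⟨w, rfl⟩ := mem_EE.1 he
  rw [map_sub]
  conv_lhs => enter [1, 1]; rw [← mem_CC.1 hc]
  rw [hB, sub_self]

theorem CC_orth_EE' (hB : ∀ x y, B (X x) (X y) = B x y) {c e : V} (hc : c ∈ CC X) (he : e ∈ EE X) :
    B e c = 0 := by
  obtain ⟨w, rfl⟩ := mem_EE.1 he
  rw [map_sub, LinearMap.sub_apply]
  conv_lhs => enter [1, 2]; rw [← mem_CC.1 hc]
  rw [hB, sub_self]

variable [FiniteDimensional F V]

theorem CC_nondeg (hB : ∀ x y, B (X x) (X y) = B x y) (hX : ∀ v, (X ^ r) v = v) (hr : (r : F) ≠ 0)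
    (hnd : ∀ x, (∀ y, B x y = 0) → x = 0) {c : V} (hc : c ∈ CC X) (h : ∀ c' ∈ CC X, B c c' = 0) :
    c = 0 := by
  apply hnd
  intro y
  obtain ⟨c', hc', e, he, rfl⟩ := exists_decomp hX hr y
  rw [map_add, h c' hc', CC_orth_EE hB hc he, add_zero]

theorem EE_nondeg (hB : ∀ x y, B (X x) (X y) = B x y) (hX : ∀ v, (X ^ r) v = v) (hr : (r : F) ≠ 0)
    (hnd : ∀ x, (∀ y, B x y = 0) → x = 0) {e : V} (he : e ∈ EE X) (h : ∀ e' ∈ EE X, B e e' = 0) :
    e = 0 := by
  apply hnd
  intro y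
  obtain ⟨c', hc', e', he', rfl⟩ := exists_decomp hX hr y
  rw [map_add, h e' he', CC_orth_EE' hB hc' he, add_zero]

/-- `U - 1` is nilpotent. -/
theorem nilp {p : ℕ} [Fact p.Prime] [CharP F p] {U : V →ₗ[F] V} (hU : ∀ v, (U ^ p) v = v) (v : V) :
    ((U - 1) ^ p) v = 0 := by
  by_cases hV : Nontrivial V
  · have : CharP (Module.End F V) p := by
      exact charP_of_injective_algebraMap (algebraMap F (Module.End F V)).injective p
    rw [sub_pow_char_of_commute p (Commute.one_right U), one_pow]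
    rw [LinearMap.sub_apply, hU, Module.End.one_apply, sub_self]
  · rw [not_nontrivial_iff_subsingleton] at hV
    exact Subsingleton.elim _ _

/-- A unipotent element acts trivially on `E`. -/
theorem Dat.U_EE [Fintype F] (h : Dat X (Fintype.card F) r k) {p : ℕ} [Fact p.Prime] [CharP F p]
    {U : V →ₗ[F] V} (hU : ∀ v, (U ^ p) v = v) (hUX : ∀ v, U (X v) = X (U v)) {e : V}
    (he : e ∈ EE X) : U e = e := by
  have hcomm : ∀ v, (U - 1) (X v) = X ((U - 1) v) := by
    intro v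
    rw [LinearMap.sub_apply, LinearMap.sub_apply, hUX, Module.End.one_apply, Module.End.one_apply,
      map_sub]
  obtain ⟨v, hv, hv0, hUv⟩ := exists_ker_of_nilpotent (ν := U - 1) (m := p) (U := EE X)
    (fun v _ => nilp hU v) (fun v hv => mem_EE_of_comm hcomm hv) h.EE_ne
  have h1 := h.schur hcomm hv hv0 hUv e he
  rw [LinearMap.sub_apply, Module.End.one_apply, sub_eq_zero] at h1
  exact h1

/-- The unipotent element has a Jordan block of size three on `C`. -/
theorem Dat.regular [Fintype F] (h : Dat X (Fintype.card F) r k) (h2 : (2 : F) ≠ 0)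
    (hBs : ∀ x y, B x y = B y x)
    (hB : ∀ x y, B (X x) (X y) = B x y) (hnd : ∀ x, (∀ y, B x y = 0) → x = 0)
    {p : ℕ} [Fact p.Prime] [CharP F p]
    {U : V →ₗ[F] V} (hU : ∀ v, (U ^ p) v = v) (hUX : ∀ v, U (X v) = X (U v))
    (hUB : ∀ x y, B (U x) (U y) = B x y) (hU1 : U ≠ 1) :
    ∃ v ∈ CC X, (U - 1) ((U - 1) v) ≠ 0 := by
  by_contra hcon
  push Not at hcon
  set ν := U - 1 with hν
  have hUν : ∀ v, U v = v + ν v := by
    intro v
    rw [hν, LinearMap.sub_apply, Module.End.one_apply]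
    abel
  have hcomm : ∀ v, ν (X v) = X (ν v) := by
    intro v
    rw [hν, LinearMap.sub_apply, LinearMap.sub_apply, hUX, Module.End.one_apply,
      Module.End.one_apply, map_sub]
  have hνC : ∀ v ∈ CC X, ν v ∈ CC X := fun v hv => mem_CC_of_comm hcomm hv
  have e1 : ∀ v w, B (ν v) w + B v (ν w) + B (ν v) (ν w) = 0 := by
    intro v w
    have := hUB v w
    rw [hUν, hUν, map_add, LinearMap.map_add₂, LinearMap.map_add₂] at this
    linear_combination this
  have e2 : ∀ v ∈ CC X, ∀ w ∈ CC X, B (ν v) (ν w) = 0 := by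
    intro v hv w hw
    have := e1 v (ν w)
    rw [hcon w hw, map_zero, map_zero, add_zero, add_zero] at this
    exact this
  have e3 : ∀ v ∈ CC X, ∀ w ∈ CC X, B (ν v) w = - B v (ν w) := by
    intro v hv w hw
    have := e1 v w
    rw [e2 v hv w hw, add_zero] at this
    exact eq_neg_of_add_eq_zero_left this
  have e4 : ∀ v ∈ CC X, B (ν v) v = 0 := by
    intro v hv
    have h1 := e3 v hv v hv
    rw [hBs v (ν v)] at h1
    have h3 : (2 : F) * B (ν v) v = 0 := by linear_combination h1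
    exact (mul_eq_zero.1 h3).resolve_left h2
  -- a vector of `C` moved
  obtain ⟨v0, hv0, hv0'⟩ : ∃ v ∈ CC X, ν v ≠ 0 := by
    by_contra hc
    push Not at hc
    apply hU1
    ext v
    obtain ⟨c, hc', e, he, rfl⟩ := exists_decomp h.hX h.hrF v
    rw [map_add, hUν c, hc c hc', add_zero, h.U_EE hU hUX he, Module.End.one_apply]
  obtain ⟨w0, hw0, hw0'⟩ : ∃ w ∈ CC X, B (ν v0) w ≠ 0 := by
    by_contra hc
    push Not at hc
    exact hv0' (CC_nondeg hB h.hX h.hrF hnd (hνC _ hv0) hc)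
  have hlin : LinearIndependent F ![(⟨v0, hv0⟩ : CC X), ⟨w0, hw0⟩, ⟨ν v0, hνC _ hv0⟩,
      ⟨ν w0, hνC _ hw0⟩] := by
    rw [Fintype.linearIndependent_iff]
    intro g hg
    rw [Fin.sum_univ_four] at hg
    simp only [Matrix.cons_val_zero, Matrix.cons_val_one, Matrix.cons_val] at hg
    have hg' : g 0 • v0 + g 1 • w0 + g 2 • ν v0 + g 3 • ν w0 = 0 := congrArg Subtype.val hg
    have hc1 : B w0 (ν v0) ≠ 0 := by rw [hBs]; exact hw0'
    have hc2 : B v0 (ν w0) ≠ 0 := by
      have := e3 v0 hv0 w0 hw0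
      intro h0
      rw [h0, neg_zero] at this
      exact hw0' this
    have a1 := congrArg (fun z => B z (ν v0)) hg'
    simp only [LinearMap.map_add₂, LinearMap.map_smul₂, LinearMap.map_zero₂, smul_eq_mul] at a1
    rw [hBs v0, e4 v0 hv0, e2 v0 hv0 v0 hv0, e2 w0 hw0 v0 hv0] at a1
    have g1 : g 1 = 0 := by
      have : g 1 * B w0 (ν v0) = 0 := by linear_combination a1
      exact (mul_eq_zero.1 this).resolve_right hc1
    have a2 := congrArg (fun z => B z (ν w0)) hg'
    simp only [LinearMap.map_add₂, LinearMap.map_smul₂, LinearMap.map_zero₂, smul_eq_mul] at a2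
    rw [hBs w0 (ν w0), e4 w0 hw0, e2 v0 hv0 w0 hw0, e2 w0 hw0 w0 hw0] at a2
    have g0 : g 0 = 0 := by
      have : g 0 * B v0 (ν w0) = 0 := by linear_combination a2
      exact (mul_eq_zero.1 this).resolve_right hc2
    have a3 := congrArg (fun z => B z w0) hg'
    simp only [LinearMap.map_add₂, LinearMap.map_smul₂, LinearMap.map_zero₂, smul_eq_mul] at a3
    rw [g0, g1, e4 w0 hw0] at a3
    have g2 : g 2 = 0 := by
      have : g 2 * B (ν v0) w0 = 0 := by linear_combination a3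
      exact (mul_eq_zero.1 this).resolve_right hw0'
    have a4 := congrArg (fun z => B z v0) hg'
    simp only [LinearMap.map_add₂, LinearMap.map_smul₂, LinearMap.map_zero₂, smul_eq_mul] at a4
    rw [g0, g1, e4 v0 hv0, hBs (ν w0)] at a4
    have g3 : g 3 = 0 := by
      have : g 3 * B v0 (ν w0) = 0 := by linear_combination a4
      exact (mul_eq_zero.1 this).resolve_right hc2
    intro i
    fin_cases i
    · exact g0
    · exact g1
    · exact g2
    · exact g3
  have := hlin.fintype_card_le_finrank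
  rw [h.finrank_CC, Fintype.card_fin] at this
  omega

/-- The kernel of `U - 1` on `C` is a line. -/
theorem Dat.line [Fintype F] (h : Dat X (Fintype.card F) r k) {ν : V →ₗ[F] V} {m : ℕ}
    (hm : ∀ v, (ν ^ m) v = 0) (hcomm : ∀ v, ν (X v) = X (ν v))
    (hreg : ∃ v ∈ CC X, ν (ν v) ≠ 0) {l l' : V} (hl : l ∈ CC X) (hl' : l' ∈ CC X) (hl0 : l ≠ 0)
    (hνl : ν l = 0) (hνl' : ν l' = 0) : ∃ c : F, l' = c • l := by
  obtain ⟨v0, hv0, hvv⟩ := hreg
  have hνC : ∀ v ∈ CC X, ν v ∈ CC X := fun v hv => mem_CC_of_comm hcomm hv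
  by_contra hcon
  push Not at hcon
  -- `l, l', v0, ν v0` are linearly independent
  have hpow : ∀ i : ℕ, ∀ a : F, ν (ν v0) = a • ν v0 → (ν ^ i) (ν v0) = a ^ i • ν v0 := by
    intro i a ha
    induction i with
    | zero => simp
    | succ i ih => rw [pow_succ', Module.End.mul_apply, ih, map_smul, ha, smul_smul, ← pow_succ]
  have hνν : ∀ a : F, ν (ν v0) ≠ a • ν v0 := by
    intro a ha
    have h1 := hpow m a ha
    rw [hm] at h1
    rcases smul_eq_zero.1 h1.symm with h2 | h2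
    · have : a = 0 := by
        rcases Nat.eq_zero_or_pos m with h3 | h3
        · rw [h3] at h2; simp at h2
        · exact (pow_eq_zero_iff (by omega)).1 h2
      rw [this, zero_smul] at ha
      exact hvv ha
    · rw [h2, map_zero] at hvv
      exact hvv rfl
  have hlin : LinearIndependent F ![(⟨l, hl⟩ : CC X), ⟨l', hl'⟩, ⟨v0, hv0⟩,
      ⟨ν v0, hνC _ hv0⟩] := by
    rw [Fintype.linearIndependent_iff]
    intro g hg
    rw [Fin.sum_univ_four] at hg
    simp only [Matrix.cons_val_zero, Matrix.cons_val_one, Matrix.cons_val] at hg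
    have hg' : g 0 • l + g 1 • l' + g 2 • v0 + g 3 • ν v0 = 0 := congrArg Subtype.val hg
    have a1 := congrArg ν hg'
    simp only [map_add, map_smul, hνl, hνl', smul_zero, zero_add, map_zero] at a1
    have g3 : g 3 = 0 := by
      by_contra h3
      apply hνν (-(g 3)⁻¹ * g 2)
      have : (g 3)⁻¹ • (g 2 • ν v0 + g 3 • ν (ν v0)) = 0 := by rw [a1, smul_zero]
      rw [smul_add, smul_smul, smul_smul, inv_mul_cancel₀ h3, one_smul] at this
      rw [eq_neg_of_add_eq_zero_right this, ← neg_smul, neg_mul]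
    rw [g3, zero_smul, add_zero] at a1 hg'
    have hνv0 : ν v0 ≠ 0 := by
      intro h0
      rw [h0, map_zero] at hvv
      exact hvv rfl
    have g2 : g 2 = 0 := (smul_eq_zero.1 a1).resolve_right hνv0
    rw [g2, zero_smul, add_zero] at hg'
    have g1 : g 1 = 0 := by
      by_contra h3
      apply hcon (-(g 1)⁻¹ * g 0)
      have : (g 1)⁻¹ • (g 0 • l + g 1 • l') = 0 := by rw [hg', smul_zero]
      rw [smul_add, smul_smul, smul_smul, inv_mul_cancel₀ h3, one_smul] at this
      rw [eq_neg_of_add_eq_zero_right this, ← neg_smul, neg_mul]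
    rw [g1, zero_smul, add_zero] at hg'
    have g0 : g 0 = 0 := (smul_eq_zero.1 hg').resolve_right hl0
    intro i
    fin_cases i
    · exact g0
    · exact g1
    · exact g2
    · exact g3
  have := hlin.fintype_card_le_finrank
  rw [h.finrank_CC, Fintype.card_fin] at this
  omega

/-- A semisimple element commuting with `X` and a regular unipotent element is scalar on `C`. -/
theorem Dat.scalar [Fintype F] (h : Dat X (Fintype.card F) r k) {ν : V →ₗ[F] V} {m : ℕ}
    (hm : ∀ v, (ν ^ m) v = 0) (hcomm : ∀ v, ν (X v) = X (ν v))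
    (hreg : ∃ v ∈ CC X, ν (ν v) ≠ 0) {S : V →ₗ[F] V} {N : ℕ} (hS : ∀ v, (S ^ N) v = v)
    (hN : (N : F) ≠ 0) (hSX : ∀ v, S (X v) = X (S v)) (hSν : ∀ v, S (ν v) = ν (S v)) :
    ∃ a : F, ∀ v ∈ CC X, S v = a • v := by
  have hνC : ∀ v ∈ CC X, ν v ∈ CC X := fun v hv => mem_CC_of_comm hcomm hv
  have hSC : ∀ v ∈ CC X, S v ∈ CC X := fun v hv => mem_CC_of_comm hSX hv
  have hCne : CC X ≠ ⊥ := by
    intro h0
    have h1 := h.finrank_CC
    rw [h0, finrank_bot] at h1
    omega
  obtain ⟨l, hl, hl0, hνl⟩ := exists_ker_of_nilpotent (m := m) (fun v _ => hm v) hνC hCne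
  have hνSl : ν (S l) = 0 := by rw [← hSν, hνl, map_zero]
  obtain ⟨a, ha⟩ := h.line hm hcomm hreg hl (hSC l hl) hl0 hνl hνSl
  refine ⟨a, ?_⟩
  by_contra hcon
  push Not at hcon
  obtain ⟨w0, hw0, hw0'⟩ := hcon
  set T : V →ₗ[F] V := S - a • 1 with hT
  have hTv : ∀ v, T v = S v - a • v := fun v => rfl
  set D : Submodule F V := Submodule.map T (CC X) with hD
  have hDC : ∀ v ∈ D, v ∈ CC X := by
    rintro _ ⟨w, hw, rfl⟩
    rw [hTv]
    exact (CC X).sub_mem (hSC w hw) ((CC X).smul_mem _ hw)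
  have hνD : ∀ v ∈ D, ν v ∈ D := by
    rintro _ ⟨w, hw, rfl⟩
    refine ⟨ν w, hνC w hw, ?_⟩
    rw [hTv, hTv, map_sub, map_smul, hSν]
  have hDne : D ≠ ⊥ := by
    intro h0
    have : T w0 ∈ D := ⟨w0, hw0, rfl⟩
    rw [h0, Submodule.mem_bot, hTv, sub_eq_zero] at this
    exact hw0' this
  obtain ⟨l', hl', hl0', hνl'⟩ := exists_ker_of_nilpotent (m := m) (fun v _ => hm v) hνD hDne
  obtain ⟨c, hc⟩ := h.line hm hcomm hreg hl (hDC _ hl') hl0 hνl hνl'
  obtain ⟨w, hw, hw'⟩ := hl'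
  apply hl0'
  refine ker_range (a := a) hS hN (v := l') (w := w) ?_ ?_
  · rw [hc, map_smul, ha, smul_comm]
  · rw [← hw', hTv]

end Cfsg.Agent.H195.BC
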