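import Mathlib
import Cfsg.Agent.H195.BC.Final

set_option autoImplicit false

/-!
# No element of order `p (q^k + 1)` in `Ω_(2k+3)(q)` (helper195)
-/

namespace Cfsg.Agent.H195.BC

open Module QuadraticMap Cfsg Cfsg.Agent.LieClassical.OrthCore
open Cfsg.Agent.ClassicalGeometry.NegOneOmega

variable {ι : Type} [Fintype ι] [DecidableEq ι] {F : Type*} [Field F] [Fintype F]
variable {Q : QuadraticForm F (ι → F)} {k : ℕ}

omit [Fintype F] in
theorem rho_pow_eq {g : isometryGroup F ⇑Q} {m : ℕ} (h : g ^ m = 1) (v : ι → F) :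
    ((rho Q g) ^ m) v = v := by
  rw [← map_pow, h, map_one]; rfl

theorem no_elem (hQ : Nondeg Q) (hq : Odd (Fintype.card F)) (hk : 2 ≤ k)
    (hι : Fintype.card ι = 2 * k + 3) {p : ℕ} [Fact p.Prime] [CharP F p]
    (g : isometryGroup F ⇑Q) (hg : g ∈ commutator (isometryGroup F ⇑Q))
    (hord : orderOf g = p * (Fintype.card F ^ k + 1)) : False := by
  classical
  have hp : p.Prime := Fact.out
  set q := Fintype.card F with hqdef
  set N := q ^ k + 1 with hN
  have hq2 : 2 ≤ q := Fintype.one_lt_card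
  have hq3 : 3 ≤ q := by
    obtain ⟨c, hc⟩ := hq
    omega
  have hpq : p ∣ q := by
    have h1 : ((q : ℕ) : F) = 0 := FiniteField.cast_card_eq_zero F
    exact (CharP.cast_eq_zero_iff F p q).1 h1
  have hpN : ¬ p ∣ N := by
    intro h1
    have h2 : p ∣ q ^ k := dvd_pow hpq (by omega)
    have h3 : p ∣ 1 := (Nat.dvd_add_right h2).1 h1
    exact hp.one_lt.ne' (Nat.dvd_one.1 h3)
  have h2F : (2 : F) ≠ 0 := by
    intro h0
    have h1 : CharP F 2 := CharTwo.of_one_ne_zero_of_two_eq_zero one_ne_zero h0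
    have h3 := FiniteField.even_card_of_char_two (F := F) (ringChar.eq F 2)
    rw [← Nat.not_even_iff_odd] at hq
    exact hq (Nat.even_iff.2 h3)
  obtain ⟨r, hr, hrm, -, hrq⟩ := Lib.Zsigmondy.exists_primitive (a := q) (n := 2 * k) (by omega)
    (by omega) (by omega) (by omega)
  have hrN : r ∣ N := by
    have h1 : r ∣ q ^ (2 * k) - 1 := (hrm _).2 dvd_rfl
    have h2 : ¬ r ∣ q ^ k - 1 := by
      rw [hrm]
      intro h3
      have := Nat.le_of_dvd (by omega) h3
      omega
    have h3 : q ^ (2 * k) - 1 = (q ^ k + 1) * (q ^ k - 1) := by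
      rw [mul_comm 2 k, pow_mul]
      have := Nat.sq_sub_sq (q ^ k) 1
      simpa using this
    rw [h3] at h1
    exact (hr.dvd_mul.1 h1).resolve_right h2
  have hrF : (r : F) ≠ 0 := by
    intro h1
    have h2 : p ∣ r := (CharP.cast_eq_zero_iff F p r).1 h1
    exact hpN (h2.trans hrN)
  have hNF : (N : F) ≠ 0 := by
    intro h1
    exact hpN ((CharP.cast_eq_zero_iff F p N).1 h1)
  have hN0 : 10 ≤ N := by
    have h1 : 3 ^ 2 ≤ q ^ k := (Nat.pow_le_pow_left hq3 2).trans (Nat.pow_le_pow_right (by omega) hk)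
    omega
  obtain ⟨N', hN'⟩ := id hrN
  have hN'0 : 0 < N' := by
    rcases Nat.eq_zero_or_pos N' with h1 | h1
    · rw [h1] at hN'; omega
    · exact h1
  -- the pieces
  have hgord : ∀ j, g ^ j = 1 ↔ p * N ∣ j := by
    intro j
    rw [← orderOf_dvd_iff_pow_eq_one, hord]
  set s := g ^ p with hs
  set u := g ^ N with hu
  set x := g ^ (p * N') with hx
  have hspow : ∀ i, s ^ i = 1 ↔ N ∣ i := by
    intro i
    rw [hs, ← pow_mul, hgord]
    exact Nat.mul_dvd_mul_iff_left hp.pos
  have hsmem : s ∈ commutator (isometryGroup F ⇑Q) := pow_mem hg p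
  have hup : u ^ p = 1 := by
    rw [hu, ← pow_mul, hgord, mul_comm]
  have hxr : x ^ r = 1 := by
    rw [hx, ← pow_mul, hgord, mul_assoc, hN', mul_comm N' r]
  have hx1 : x ≠ 1 := by
    rw [hx, Ne, hgord, Nat.mul_dvd_mul_iff_left hp.pos, hN']
    intro h1
    have h2 := Nat.le_of_dvd hN'0 h1
    have h3 : 2 * N' ≤ r * N' := Nat.mul_le_mul_right _ hr.two_le
    omega
  have hu1 : u ≠ 1 := by
    rw [hu, Ne, hgord]
    intro h1
    have h2 := Nat.le_of_dvd (by omega) h1
    have h3 : 2 * N ≤ p * N := Nat.mul_le_mul_right _ hp.two_le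
    omega
  have hD : Dat (rho Q x) q r k :=
    { hr := hr
      hX := rho_pow_eq hxr
      hX1 := fun h1 => hx1 (rho_injective (h1.trans (map_one (rho Q)).symm))
      hrF := hrF
      hdvd := hrm
      hk := hk
      hV := by rw [Module.finrank_fintype_fun_eq_card, hι] }
  have hcomm : ∀ a b : ℕ, ∀ v, rho Q (g ^ a) (rho Q (g ^ b) v) = rho Q (g ^ b) (rho Q (g ^ a) v) := by
    intro a b v
    rw [← Module.End.mul_apply, ← map_mul, ← pow_add, add_comm, pow_add, map_mul,
      Module.End.mul_apply]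
  have hUX : ∀ v, rho Q u (rho Q x v) = rho Q x (rho Q u v) := hcomm _ _
  have hSX : ∀ v, rho Q s (rho Q x v) = rho Q x (rho Q s v) := hcomm _ _
  have hSU : ∀ v, rho Q s (rho Q u v) = rho Q u (rho Q s v) := hcomm _ _
  have hreg := hD.regular (B := polarBilin Q) h2F (fun a b => polar_comm Q a b)
    (fun a b => polar_rho x a b) (fun a ha => hQ a ha) (p := p) (U := rho Q u)
    (rho_pow_eq hup) hUX (fun a b => polar_rho u a b)
    (fun h1 => hu1 (rho_injective (h1.trans (map_one (rho Q)).symm)))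
  have hν1 : ∀ v, (((rho Q u - 1 : Module.End F (ι → F))) ^ p) v = 0 := nilp (rho_pow_eq hup)
  have hsub : ∀ v, (rho Q u - 1 : Module.End F (ι → F)) v = rho Q u v - v := fun v => rfl
  obtain ⟨a, ha⟩ := hD.scalar (ν := rho Q u - 1) (m := p) hν1
    (fun v => by rw [hsub, hsub, map_sub, hUX]) hreg (S := rho Q s) (N := N)
    (rho_pow_eq ((hspow N).2 dvd_rfl)) hNF hSX (fun v => by rw [hsub, hsub, map_sub, hSU])
  have hXB : ∀ a b, polar Q (rho Q x a) (rho Q x b) = polar Q a b := fun a b => polar_rho x a b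
  -- a nonsingular vector of `C`
  obtain ⟨c0, hc0, hc0'⟩ : ∃ v ∈ CC (rho Q x), Q v ≠ 0 := by
    by_contra hcon
    push Not at hcon
    have h1 : CC (rho Q x) = ⊥ := by
      rw [eq_bot_iff]
      intro v hv
      rw [Submodule.mem_bot]
      refine CC_nondeg (B := polarBilin Q) hXB hD.hX hD.hrF (fun a ha => hQ a ha) hv ?_
      intro w hw
      change polar Q v w = 0
      rw [polar, hcon _ ((CC (rho Q x)).add_mem hv hw), hcon _ hv, hcon _ hw]
      ring
    have h2 := hD.finrank_CC
    rw [h1, finrank_bot] at h2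
    omega
  have ha2 : a * a = 1 := by
    have h1 := Q_rho s c0
    rw [ha c0 hc0, QuadraticMap.map_smul, smul_eq_mul] at h1
    have h2 : (a * a - 1) * Q c0 = 0 := by linear_combination h1
    exact sub_eq_zero.1 ((mul_eq_zero.1 h2).resolve_right hc0')
  have hsE : ∀ v ∈ EE (rho Q x), rho Q s v ∈ EE (rho Q x) := fun v hv => mem_EE_of_comm hSX hv
  rcases mul_self_eq_one_iff.1 ha2 with h1 | h1
  · -- `a = 1`
    have hsC : ∀ v ∈ CC (rho Q x), rho Q s v = v := by
      intro v hv
      rw [ha v hv, h1, one_smul]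
    refine count hQ hD hq hXB s hsmem ((hspow N).2 dvd_rfl) hsC hsE ?_
    intro v hv hv0 i hi hiN hvi
    have hT : ∀ w, (rho Q (s ^ i) - 1 : Module.End F (ι → F)) w = rho Q (s ^ i) w - w :=
      fun w => rfl
    have h3 : ∀ w ∈ EE (rho Q x), rho Q (s ^ i) w = w := by
      intro w hw
      have h4 := hD.schur (T := rho Q (s ^ i) - 1) (fun w => by
        rw [hT, hT, map_sub, hs, ← pow_mul, hcomm]) hv hv0 (by rw [hT, hvi, sub_self]) w hw
      rw [hT] at h4
      exact sub_eq_zero.1 h4
    have h4 : ∀ w ∈ CC (rho Q x), rho Q (s ^ i) w = w := by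
      intro w hw
      clear hvi h3 hT hi hiN
      induction i with
      | zero => rw [pow_zero, map_one]; rfl
      | succ i ih => rw [pow_succ, map_mul, Module.End.mul_apply, hsC w hw, ih]
    have h5 : s ^ i = 1 := by
      apply rho_injective (Q := Q)
      rw [map_one]
      refine LinearMap.ext fun w => ?_
      obtain ⟨c', hc', e', he', rfl⟩ := exists_decomp hD.hX hD.hrF w
      rw [map_add, h4 c' hc', h3 e' he']
      rfl
    rw [hspow] at h5
    have hiN' : i < N := hiN
    exact absurd (Nat.le_of_dvd hi h5) (by omega)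
  · -- `a = -1`
    have hsC : ∀ v ∈ CC (rho Q x), rho Q s v = -v := by
      intro v hv
      rw [ha v hv, h1, neg_smul, one_smul]
    set S : Matrix ι ι F := ((s : Matrix.GeneralLinearGroup ι F) : Matrix ι ι F) with hSdef
    have hSv : ∀ v, S.mulVec v = rho Q s v := fun v => rfl
    have hdet : S.det = 1 := det_of_mem s hsmem
    have htrick := det_trick (W := -S) hQ (fun v w => by
      rw [Matrix.neg_mulVec, Matrix.neg_mulVec, hSv, hSv, polar_neg_left, polar_neg_right, neg_neg,
        polar_rho])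
    have hodd : Odd (Fintype.card ι) := by rw [hι]; exact ⟨k + 1, by ring⟩
    rw [Matrix.det_neg, hodd.neg_one_pow, hdet] at htrick
    have h3 : (1 + -S).det = 0 := by
      have h4 : (2 : F) * (1 + -S).det = 0 := by linear_combination htrick
      exact (mul_eq_zero.1 h4).resolve_left h2F
    obtain ⟨v, hv0, hv⟩ := Matrix.exists_mulVec_eq_zero_iff.2 h3
    rw [Matrix.add_mulVec, Matrix.one_mulVec, Matrix.neg_mulVec, hSv, ← sub_eq_add_neg,
      sub_eq_zero] at hv
    obtain ⟨c, hc, e, he, rfl⟩ := exists_decomp hD.hX hD.hrF v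
    have h4 : c + c = rho Q s e - e := by
      rw [map_add, hsC c hc] at hv
      have : c + e + c - e = -c + rho Q s e + c - e := by rw [← hv]
      rw [show c + e + c - e = c + c by abel] at this
      rw [this]; abel
    have h5 : c + c = 0 := by
      have h6 : c + c ∈ CC (rho Q x) ⊓ EE (rho Q x) := by
        refine ⟨(CC (rho Q x)).add_mem hc hc, ?_⟩
        rw [h4]
        exact (EE (rho Q x)).sub_mem (hsE e he) he
      rw [CC_inf_EE hD.hX hD.hrF] at h6
      exact h6
    have h6 : c = 0 := by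
      have : (2 : F) • c = 0 := by rw [two_smul]; exact h5
      exact (smul_eq_zero.1 this).resolve_left h2F
    have he0 : e ≠ 0 := by
      rintro rfl
      apply hv0
      rw [h6, add_zero]
    rw [h5] at h4
    have h7 := hD.schur (T := rho Q s - 1) (fun w => by
        change rho Q s (rho Q x w) - rho Q x w = rho Q x (rho Q s w - w)
        rw [map_sub, hSX]) he he0 (show rho Q s e - e = 0 from h4.symm)
    have h8 : s ^ 2 = 1 := by
      apply rho_injective (Q := Q)
      rw [map_one]
      refine LinearMap.ext fun w => ?_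
      obtain ⟨c', hc', e', he', rfl⟩ := exists_decomp hD.hX hD.hrF w
      have h9 : rho Q s e' = e' := sub_eq_zero.1 (h7 e' he')
      rw [pow_two, map_mul, Module.End.mul_apply, map_add, map_add, hsC c' hc', map_neg,
        hsC c' hc', neg_neg, h9, h9]
      rfl
    rw [hspow] at h8
    exact absurd (Nat.le_of_dvd (by omega) h8) (by omega)

end Cfsg.Agent.H195.BC
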