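import Mathlib
import Cfsg.Agent.H376.SpEmb

set_option autoImplicit false

/-!
# An element of order `p (q^k + 1)` in `PSp_(2k+2)(q)`, `q` odd (helper195)
-/

namespace Cfsg.Agent.H195.BC.Symp

open Matrix Cfsg.Agent.H376.SpEmb

/-- a transvection in `Sp_2` -/
def trv (F : Type*) [Field F] : Matrix.symplecticGroup (Fin 1) F :=
  ⟨fromBlocks 1 1 0 1, by
    rw [SymplecticGroup.fromBlocks_mem_iff]
    simp⟩

theorem trv_pow (F : Type*) [Field F] (j : ℕ) :
    ((trv F ^ j : Matrix.symplecticGroup (Fin 1) F) : Matrix (Fin 1 ⊕ Fin 1) (Fin 1 ⊕ Fin 1) F) =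
      fromBlocks 1 (j : Matrix (Fin 1) (Fin 1) F) 0 1 := by
  induction j with
  | zero => simp
  | succ j ih =>
    rw [pow_succ]
    change _ * fromBlocks 1 1 0 1 = _
    rw [ih, Matrix.fromBlocks_multiply]
    simp
    exact add_comm _ _

theorem orderOf_trv (F : Type*) [Field F] {p : ℕ} [hp : Fact p.Prime] [CharP F p] :
    orderOf (trv F) = p := by
  apply orderOf_eq_prime
  · apply Subtype.ext
    rw [trv_pow]
    have h1 : ((p : ℕ) : Matrix (Fin 1) (Fin 1) F) = 0 := by
      ext i j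
      fin_cases i; fin_cases j
      simp
    rw [h1, Matrix.fromBlocks_one]
    rfl
  · intro h
    have h1 := congrArg Subtype.val h
    have h2 := congrFun (congrFun h1 (Sum.inl 0)) (Sum.inr 0)
    simp [trv] at h2

theorem exists_elem (F : Type*) [Field F] [Finite F] {p : ℕ} [hp : Fact p.Prime] [CharP F p]
    (h2 : (2 : F) ≠ 0) {n k : ℕ} (hn : n = 1 + k) (hk : k ≠ 0) :
    ∃ C : Cfsg.PSp n F, orderOf C = p * (Nat.card F ^ k + 1) := by
  subst hn
  obtain ⟨u, hu⟩ := exists_plus F k hk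
  have hcop : Nat.Coprime p (Nat.card F ^ k + 1) := by
    rw [Nat.Prime.coprime_iff_not_dvd hp.out]
    intro h1
    have hpq : p ∣ Nat.card F := by
      have := Fintype.ofFinite F
      rw [Nat.card_eq_fintype_card]
      exact (CharP.cast_eq_zero_iff F p _).1 (FiniteField.cast_card_eq_zero F)
    have h2 : p ∣ Nat.card F ^ k := dvd_pow hpq hk
    have h3 : p ∣ 1 := (Nat.dvd_add_right h2).1 h1
    exact hp.out.one_lt.ne' (Nat.dvd_one.1 h3)
  let C : Matrix.symplecticGroup (Fin (1 + k)) F := (reidx finSumFinEquiv) (blk _ _ (trv F, u))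
  have hC : orderOf C = p * (Nat.card F ^ k + 1) := by
    rw [orderOf_injective _ (reidx_injective _), orderOf_injective _ (blk_injective _ _),
      Prod.orderOf_mk, orderOf_trv F (p := p), hu, hcop.lcm_eq_mul]
  refine ⟨QuotientGroup.mk C, ?_⟩
  rw [← hC]
  apply orderOf_eq_orderOf_iff.2
  intro j
  rw [← QuotientGroup.mk_pow, QuotientGroup.eq_one_iff]
  constructor
  · intro h
    rcases ClassicalGeometry.SympInvolutions.center_eq h with h1 | h1
    · exact Subtype.ext h1
    · exfalso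
      have h3 : C ^ j = (reidx finSumFinEquiv) (blk (Fin 1) (Fin k) (trv F ^ j, u ^ j)) := by
        have h4 : (trv F ^ j, u ^ j) = (trv F, u) ^ j := rfl
        rw [h4, map_pow, map_pow]
      rw [h3] at h1
      have h4 := congrFun (congrFun h1 (Sum.inl (finSumFinEquiv (Sum.inl 0))))
        (Sum.inl (finSumFinEquiv (Sum.inl 0)))
      have h5 : ((reidx finSumFinEquiv) (blk (Fin 1) (Fin k) (trv F ^ j, u ^ j)) :
          Matrix (Fin (1 + k) ⊕ Fin (1 + k)) (Fin (1 + k) ⊕ Fin (1 + k)) F)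
          (Sum.inl (finSumFinEquiv (Sum.inl 0))) (Sum.inl (finSumFinEquiv (Sum.inl 0))) =
          ((trv F ^ j : Matrix.symplecticGroup (Fin 1) F) :
            Matrix (Fin 1 ⊕ Fin 1) (Fin 1 ⊕ Fin 1) F) (Sum.inl 0) (Sum.inl 0) := by
        change (blkM (trv F ^ j).1 (u ^ j).1).submatrix _ _ _ _ = _
        simp only [Matrix.submatrix_apply, Equiv.sumCongr_symm, Equiv.sumCongr_apply, Sum.map_inl,
          Equiv.symm_apply_apply]
        rfl
      rw [h5, trv_pow] at h4
      simp at h4
      apply h2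
      linear_combination h4
  · intro h
    rw [h]
    exact one_mem _

end Cfsg.Agent.H195.BC.Symp
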